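import Mathlib
import Groth.Agent.Lib.FormalUnibranch.Basic
import Groth.Agent.Lib.LocAcyc.Universal

/-!
# Finite extensions of complete discrete valuation rings
-/

set_option autoImplicit false
set_option linter.style.haveILetI false
universe u

open IsLocalRing
attribute [local instance] FractionRing.liftAlgebra

namespace GrothLib.DvrExt1

variable (A B : Type u) [CommRing A] [IsDomain A] [IsDiscreteValuationRing A]
    [IsAdicComplete (maximalIdeal A) A]
    [CommRing B] [IsDedekindDomain B] [Algebra A B] [Module.Finite A B] [Module.IsTorsionFree A B]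

theorem henselianLocalRing_base : HenselianLocalRing A where
  is_henselian f hf a h₁ h₂ := HenselianRing.is_henselian (I := maximalIdeal A) f hf a h₁ (h₂.map _)

include A

theorem isLocalRing : IsLocalRing B :=
  FormalUnibranch.isLocalRing_of_finite_domain (R := A)

theorem henselianLocalRing : HenselianLocalRing B :=
  haveI := isLocalRing A B
  haveI := henselianLocalRing_base A
  LocAcyc.henselianLocalRing_of_isIntegral A B

theorem not_isField : ¬ IsField B := fun h =>
  IsDiscreteValuationRing.not_isField A
    ((Algebra.IsIntegral.isField_iff_isField (R := A) (S := B)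
      (FaithfulSMul.algebraMap_injective A B)).2 h)

theorem isDiscreteValuationRing [IsLocalRing B] : IsDiscreteValuationRing B :=
  ((IsDiscreteValuationRing.TFAE B (not_isField A B)).out 0 2).2 ‹_›

theorem liesOver (M : Ideal B) [M.IsMaximal] : M.LiesOver (maximalIdeal A) :=
  ⟨(eq_maximalIdeal (Ideal.isMaximal_comap_of_isIntegral_of_isMaximal (R := A) M)).symm⟩

theorem map_maximalIdeal_ne_bot : (maximalIdeal A).map (algebraMap A B) ≠ ⊥ :=
  Ideal.map_ne_bot_of_ne_bot (IsDiscreteValuationRing.not_a_field A)

theorem map_maximalIdeal (M : Ideal B) [M.IsMaximal] :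
    (maximalIdeal A).map (algebraMap A B) = M ^ M.ramificationIdx A := by
  haveI := isLocalRing A B
  haveI := isDiscreteValuationRing A B
  haveI := liesOver A B M
  obtain rfl := eq_maximalIdeal (inferInstance : M.IsMaximal)
  obtain ⟨j, hj⟩ := exists_maximalIdeal_pow_eq_of_principal B inferInstance _ (map_maximalIdeal_ne_bot A B)
  rw [hj, Ideal.IsDedekindDomain.ramificationIdx_eq_multiplicity (maximalIdeal A) _ (map_maximalIdeal_ne_bot A B),
    hj, multiplicity_pow_self_of_prime (Ideal.prime_of_isPrime (IsDiscreteValuationRing.not_a_field B) inferInstance)]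

theorem ramificationIdx_mul_inertiaDeg (M : Ideal B) [M.IsMaximal] :
    M.ramificationIdx A * M.inertiaDeg A = Module.finrank A B := by
  classical
  haveI := isLocalRing A B
  haveI := liesOver A B M
  haveI : Module.Free A B := inferInstance
  letI : Unique ((maximalIdeal A).primesOver B) :=
    { default := ⟨M, inferInstance, inferInstance⟩
      uniq := fun Q => Subtype.ext (by
        haveI := Q.2.1
        haveI := Q.2.2
        haveI : Q.1.IsMaximal := Ideal.IsMaximal.of_liesOver_isMaximal Q.1 (maximalIdeal A)
        exact (eq_maximalIdeal (inferInstance : Q.1.IsMaximal)).trans (eq_maximalIdeal (inferInstance : M.IsMaximal)).symm) }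
  have h := Ideal.sum_ramification_inertia_eq_finrank (maximalIdeal A) B
  rw [Fintype.sum_unique] at h
  exact h

theorem relNorm_eq (M : Ideal B) [M.IsMaximal] [Algebra.IsSeparable (FractionRing A) (FractionRing B)] :
    Ideal.relNorm A M = maximalIdeal A ^ M.inertiaDeg A := by
  haveI := liesOver A B M
  obtain ⟨s, hs⟩ := Ideal.exists_relNorm_eq_pow_of_isPrime M (maximalIdeal A)
  have h := congrArg (Ideal.relNorm A) (map_maximalIdeal A B M)
  rw [Ideal.relNorm_algebraMap, map_pow, hs, ← pow_mul,
    (Ideal.pow_right_strictAnti (maximalIdeal A) (IsDiscreteValuationRing.not_a_field A)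
      (maximalIdeal.isMaximal A).ne_top).injective.eq_iff,
    ← ramificationIdx_mul_inertiaDeg A B M, mul_comm s] at h
  rw [hs, mul_left_cancel₀ (Ideal.ramificationIdx_pos M A).ne' h]

theorem emultiplicity_intNorm [Algebra.IsSeparable (FractionRing A) (FractionRing B)]
    (M : Ideal B) [M.IsMaximal] (x : B) (hx : x ≠ 0) :
    emultiplicity (maximalIdeal A) (Ideal.span {Algebra.intNorm A B x}) =
      (M.inertiaDeg A : ℕ∞) * emultiplicity M (Ideal.span {x}) := by
  haveI := isLocalRing A B
  haveI := isDiscreteValuationRing A B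
  have hM := eq_maximalIdeal (inferInstance : M.IsMaximal)
  obtain ⟨w, hw⟩ := exists_maximalIdeal_pow_eq_of_principal B inferInstance (Ideal.span {x})
    (by simp [hx])
  have hN : Ideal.span {Algebra.intNorm A B x} = maximalIdeal A ^ (M.inertiaDeg A * w) := by
    rw [← Ideal.relNorm_singleton, hw, ← hM, map_pow, relNorm_eq, ← pow_mul]
  rw [hN, hw, ← hM, emultiplicity_pow_self_of_prime
      (Ideal.prime_of_isPrime (IsDiscreteValuationRing.not_a_field A) inferInstance),
    emultiplicity_pow_self_of_prime (Ideal.prime_of_isPrime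
      (by rw [hM]; exact IsDiscreteValuationRing.not_a_field B) inferInstance)]
  push_cast
  rfl

theorem exists_root_of_residue [IsLocalRing B] [HenselianLocalRing B] {f : Polynomial B} (hf : f.Monic) {a : B}
    (h1 : f.eval a ∈ maximalIdeal B) (h2 : f.derivative.eval a ∉ maximalIdeal B) :
    ∃ c, f.IsRoot c ∧ c - a ∈ maximalIdeal B :=
  HenselianLocalRing.is_henselian f hf a h1 ((IsLocalRing.notMem_maximalIdeal).1 h2)

theorem existsUnique_algebraic_lift (K : Type u) [Field K] [PerfectField K] [Algebra K A]
    (hK : Function.Surjective ((residue A).comp (algebraMap K A))) [Algebra K B] [IsScalarTower K A B]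
    (M : Ideal B) [M.IsMaximal] (b : B) : ∃! c : B, IsAlgebraic K c ∧ b - c ∈ M := by
  haveI := isLocalRing A B
  haveI := henselianLocalRing A B
  obtain rfl := eq_maximalIdeal (inferInstance : M.IsMaximal)
  -- the residue field of `B` is finite over `K`
  haveI : Algebra.IsIntegral K (ResidueField B) := by
    refine ⟨fun x => ?_⟩
    obtain ⟨y, rfl⟩ := residue_surjective x
    obtain ⟨p, hp, hpy⟩ := Algebra.IsIntegral.isIntegral (R := A) y
    have hl : p.map (residue A) ∈ Polynomial.lifts ((residue A).comp (algebraMap K A)) := by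
      rw [Polynomial.lifts_iff_coeff_lifts]; exact fun i => hK _
    obtain ⟨q, hq, -, hqm⟩ := Polynomial.lifts_and_natDegree_eq_and_monic hl (hp.map _)
    refine ⟨q, hqm, ?_⟩
    have hc : ((residue B).comp (algebraMap A B)) =
        (algebraMap (ResidueField A) (ResidueField B)).comp (residue A) := rfl
    have h0 : Polynomial.eval₂ ((residue B).comp (algebraMap A B)) (residue B y) p = 0 := by
      rw [← Polynomial.hom_eval₂, hpy, map_zero]
    rw [hc, ← Polynomial.eval₂_map, ← hq, Polynomial.eval₂_map] at h0
    rwa [show algebraMap K (ResidueField B) = (algebraMap (ResidueField A) (ResidueField B)).comp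
        ((residue A).comp (algebraMap K A)) from RingHom.ext fun x => by
      rw [IsScalarTower.algebraMap_apply K B (ResidueField B), IsScalarTower.algebraMap_apply K A B]
      rfl]
  have hint := Algebra.IsIntegral.isIntegral (R := K) (residue B b)
  set q := minpoly K (residue B b)
  have hsep : q.Separable := PerfectField.separable_of_irreducible (minpoly.irreducible hint)
  have hres : ∀ p : Polynomial K, residue B ((p.map (algebraMap K B)).eval b) = Polynomial.aeval (residue B b) p :=
    fun p => by
      rw [Polynomial.eval_map, Polynomial.hom_eval₂]; rfl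
  obtain ⟨c, hc, hcb⟩ := exists_root_of_residue A B (f := q.map (algebraMap K B))
    ((minpoly.monic hint).map _) (a := b)
    (by rw [← residue_eq_zero_iff, hres, minpoly.aeval])
    (by
      rw [← residue_eq_zero_iff, Polynomial.derivative_map, hres]
      exact hsep.aeval_derivative_ne_zero (minpoly.aeval _ _))
  refine ⟨c, ⟨⟨q, minpoly.ne_zero hint, ?_⟩, by rw [← neg_sub]; exact neg_mem hcb⟩, fun c' ⟨hc', hc'b⟩ => ?_⟩
  · rwa [Polynomial.IsRoot, Polynomial.eval_map, ← Polynomial.aeval_def] at hc
  by_contra hne
  have halg : IsAlgebraic K (c' - c) := hc'.sub ⟨q, minpoly.ne_zero hint, by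
    rwa [Polynomial.IsRoot, Polynomial.eval_map, ← Polynomial.aeval_def] at hc⟩
  have hmem : c' - c ∈ maximalIdeal B := by
    rw [show c' - c = -(b - c') + -(c - b) by ring]
    exact add_mem (neg_mem hc'b) (neg_mem hcb)
  obtain ⟨r, hr, hdvd⟩ := halg.exists_nonzero_dvd (mem_nonZeroDivisors_of_ne_zero (sub_ne_zero.2 hne))
  exact (IsLocalRing.notMem_maximalIdeal.2 ((Ne.isUnit hr).map (algebraMap K B)))
    (Ideal.mem_of_dvd _ hdvd hmem)

theorem exists_uniformizer_pow_mem (K : Type u) [Field K] [Algebra K A]
    (hK : Function.Surjective ((residue A).comp (algebraMap K A)))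
    (M : Ideal B) [M.IsMaximal] (hram : M.ramificationIdx A = Module.finrank A B)
    (hm : IsUnit ((Module.finrank A B : ℕ) : A)) :
    ∃ u : B, u ∈ M ∧ u ∉ M ^ 2 ∧ u ^ Module.finrank A B ∈ (algebraMap A B).range ∧
      (minpoly A u).natDegree = Module.finrank A B := by
  haveI := isLocalRing A B
  haveI := henselianLocalRing A B
  haveI := isDiscreteValuationRing A B
  haveI := liesOver A B M
  set n := Module.finrank A B with hn
  have hn0 : 0 < n := Module.finrank_pos
  have hf : M.inertiaDeg A = 1 := by
    have := ramificationIdx_mul_inertiaDeg A B M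
    rw [hram] at this
    exact (mul_eq_left₀ hn0.ne').1 this
  have hmap := map_maximalIdeal A B M
  rw [hram] at hmap
  obtain rfl := eq_maximalIdeal (inferInstance : M.IsMaximal)
  obtain ⟨π, hπ⟩ := IsDiscreteValuationRing.exists_irreducible B
  obtain ⟨t, ht⟩ := IsDiscreteValuationRing.exists_irreducible A
  rw [hπ.maximalIdeal_eq, ht.maximalIdeal_eq, Ideal.map_span, Set.image_singleton, Ideal.span_singleton_pow,
    Ideal.span_singleton_eq_span_singleton] at hmap
  obtain ⟨v, hv⟩ := hmap.symm
  -- residue of v comes from K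
  have hsurj : Function.Surjective (algebraMap (ResidueField A) (ResidueField B)) := by
    have h1 : Module.finrank (ResidueField A) (ResidueField B) = 1 := by
      rw [← hf, Ideal.inertiaDeg_eq_of_isMaximal (maximalIdeal A) (maximalIdeal B)]
      rfl
    intro x
    obtain ⟨c, hc⟩ := (finrank_eq_one_iff_of_nonzero' (1 : ResidueField B) one_ne_zero).1 h1 x
    exact ⟨c, by rwa [Algebra.algebraMap_eq_smul_one]⟩
  obtain ⟨a', ha'⟩ := hsurj (residue B v)
  obtain ⟨c, hc⟩ := hK a'
  have hc0 : algebraMap K A c ∉ maximalIdeal A := fun h => by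
    rw [← residue_eq_zero_iff] at h
    rw [← hc, RingHom.comp_apply, h, map_zero] at ha'
    exact (v.isUnit.map (residue B)).ne_zero ha'.symm
  obtain ⟨a, ha⟩ := IsLocalRing.notMem_maximalIdeal.1 hc0
  set w : B := (v : B) * algebraMap A B ↑a⁻¹ with hw
  have hw1 : residue B w = 1 := by
    have h2 : residue B v = residue B (algebraMap A B (a : A)) := by
      rw [← ha', ← hc, ha]; rfl
    rw [hw, map_mul, h2, ← map_mul, ← map_mul, a.mul_inv, map_one, map_one]
  obtain ⟨ξ, hξ, hξ1⟩ := exists_root_of_residue A B (f := Polynomial.X ^ n - Polynomial.C w)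
    (Polynomial.monic_X_pow_sub_C w hn0.ne') (a := 1)
    (by rw [← residue_eq_zero_iff]; simp [hw1])
    (by
      rw [IsLocalRing.notMem_maximalIdeal]
      simpa [Polynomial.derivative_X_pow] using hm.map (algebraMap A B))
  have hξn : ξ ^ n = w := by simpa [sub_eq_zero] using hξ
  have hξu : IsUnit ξ := IsLocalRing.notMem_maximalIdeal.1 fun h => by
    have := sub_mem h hξ1
    rw [sub_sub_cancel] at this
    exact (maximalIdeal.isMaximal B).ne_top ((Ideal.eq_top_iff_one _).2 this)
  have hun : (π * ξ) ^ n = algebraMap A B (t * ↑a⁻¹) := by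
    rw [mul_pow, hξn, hw, map_mul, ← hv]; ring
  refine ⟨π * ξ, Ideal.mul_mem_right _ _ (by rw [hπ.maximalIdeal_eq]; exact Ideal.mem_span_singleton_self π),
    fun h => ?_, ⟨_, hun.symm⟩, ?_⟩
  · rw [hπ.maximalIdeal_eq, Ideal.span_singleton_pow, Ideal.mem_span_singleton] at h
    rw [hξu.dvd_mul_right] at h
    exact hπ.not_isUnit (isUnit_of_dvd_one ((mul_dvd_mul_iff_left hπ.ne_zero).1 (by simpa [sq] using h)))
  set t' := t * (↑a⁻¹ : A)
  have ht' : Irreducible t' := (irreducible_mul_isUnit a⁻¹.isUnit).2 ht
  set p : Polynomial A := Polynomial.X ^ n - Polynomial.C t' with hp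
  have hpm : p.Monic := Polynomial.monic_X_pow_sub_C t' hn0.ne'
  have hpd : p.natDegree = n := Polynomial.natDegree_X_pow_sub_C
  have hpi : Irreducible p := by
    refine Polynomial.IsEisensteinAt.irreducible ⟨?_, ?_, ?_⟩ (maximalIdeal.isMaximal A).isPrime hpm.isPrimitive
      (hpd ▸ hn0)
    · rw [hpm.leadingCoeff]; exact fun h => (maximalIdeal.isMaximal A).ne_top ((Ideal.eq_top_iff_one _).2 h)
    · intro i hi
      rw [hpd] at hi
      simp only [hp, Polynomial.coeff_sub, Polynomial.coeff_X_pow, hi.ne, if_false, Polynomial.coeff_C]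
      split_ifs
      · simpa using neg_mem ((mem_maximalIdeal t').2 ht'.not_isUnit)
      · simp
    · simp only [hp, Polynomial.coeff_sub, Polynomial.coeff_X_pow, hn0.ne, if_false, Polynomial.coeff_C_zero,
        zero_sub, neg_mem_iff]
      rw [ht'.maximalIdeal_eq, Ideal.span_singleton_pow, Ideal.mem_span_singleton]
      intro h
      exact ht'.not_isUnit (isUnit_of_dvd_one ((mul_dvd_mul_iff_left ht'.ne_zero).1 (by simpa [sq] using h)))
  have hu : Polynomial.aeval (π * ξ) p = 0 := by simp [hp, hun]
  have hdvd := minpoly.isIntegrallyClosed_dvd (Algebra.IsIntegral.isIntegral (R := A) (π * ξ)) hu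
  rw [← hpd, Polynomial.eq_of_monic_of_associated (minpoly.monic (Algebra.IsIntegral.isIntegral (R := A) (π * ξ))) hpm
    ((hpi.dvd_iff.1 hdvd).resolve_left (minpoly.not_isUnit A _)).symm]

end GrothLib.DvrExt1
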